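import Cfsg.Agent.H0.OutA
import Cfsg.Agent.H0.MJ2p.D
set_option maxRecDepth 100000
set_option Elab.async false
set_option linter.unusedSectionVars false
namespace H0.OJ2p
open H0 BN 
noncomputable def xO3 : ℕ := (ival 0 100)
noncomputable def xO2 : ℕ := (bitsL [89, 91, 93, 98])
noncomputable def xO1 : ℕ := (bitsL [0, 2, 5, 7, 8, 11, 12, 14, 15, 16, 24, 25, 32, 34, 36, 37, 38, 39, 41, 42, 45, 47, 50, 52, 57, 63, 66, 67, 85, 86, 89, 91, 93, 94, 96, 98])
noncomputable def xO0 : ℕ := (bitsL [0, 37, 38, 89, 91, 93, 98])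
noncomputable def yO2 : ℕ := (ival 0 100)
noncomputable def yO1 : ℕ := (bitsL [2, 7, 53, 81, 85, 90, 94])
noncomputable def yO0 : ℕ := (bitsL [0, 91, 93])
noncomputable def s36 : Net := (Net.cons (nat_lit 64) (nat_lit 0x100000000000) (Net.cons (nat_lit 32) (nat_lit 0x8000108000000000dfdfe000) (Net.cons (nat_lit 16) (nat_lit 0x8000000006020000a02600004100) (Net.cons (nat_lit 8) (nat_lit 0x80000a003000f000a000e6007e) (Net.cons (nat_lit 4) (nat_lit 0x80000080104040c0804090f0a) (Net.cons (nat_lit 2) (nat_lit 0x2000133032220320022320312202) (Net.cons (nat_lit 1) (nat_lit 0x1001050101444505411014141144) (Net.cons (nat_lit 2) (nat_lit 0x2000000002220000022020202220) (Net.cons (nat_lit 4) (nat_lit 0x80004040c0804040004) (Net.cons (nat_lit 8) (nat_lit 0x80000e003400e0008000c4007e) (Net.cons (nat_lit 16) (nat_lit 0x8000000002040000a02600004100) (Net.cons (nat_lit 32) (nat_lit 0x8000108000000000dfdfe000) (Net.cons (nat_lit 64) (nat_lit 0x100000000000) Net.nil)))))))))))))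
noncomputable def n13 : Net := (Net.cons (nat_lit 64) (nat_lit 0xa3b1acd8e3d97824) (Net.cons (nat_lit 32) (nat_lit 0xb54ad75c000000009080201f) (Net.cons (nat_lit 16) (nat_lit 0xcf620000e5b0000056ca00002704) (Net.cons (nat_lit 8) (nat_lit 0xb100f100b000ce00d600aa00780063) (Net.cons (nat_lit 4) (nat_lit 0x60a0703080a04010002060107010704) (Net.cons (nat_lit 2) (nat_lit 0x1203221020202100030030103021200) (Net.cons (nat_lit 1) (nat_lit 0x14010415140505500440051004000105) (Net.cons (nat_lit 2) (nat_lit 0x20000200220000000200000000000000) (Net.cons (nat_lit 4) (nat_lit 0x6080402000a00080002080402000e02) (Net.cons (nat_lit 8) (nat_lit 0xe80062001400c600dc008e00200026) (Net.cons (nat_lit 16) (nat_lit 0x4ba00000cda4000046c000007208) (Net.cons (nat_lit 32) (nat_lit 0x95fad35a00000000d4866010) (Net.cons (nat_lit 64) (nat_lit 0xa3b1acd696cf8530) Net.nil)))))))))))))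
noncomputable def n14 : Net := (Net.cons (nat_lit 64) (nat_lit 0xf37100a760f3a49b) (Net.cons (nat_lit 32) (nat_lit 0x3020629800000000313d12c8) (Net.cons (nat_lit 16) (nat_lit 0x501b0000dbb300001e5f0000b254) (Net.cons (nat_lit 8) (nat_lit 0x5100b000f80010008400e800140005) (Net.cons (nat_lit 4) (nat_lit 0xa0c08030a0700070a00040f0c0e0006) (Net.cons (nat_lit 2) (nat_lit 0x32233201010013232210100302300102) (Net.cons (nat_lit 1) (nat_lit 0x40044001414005441115404050440504) (Net.cons (nat_lit 2) (nat_lit 0x20022000002000200200000000200002) (Net.cons (nat_lit 4) (nat_lit 0x80c08020604080a00040c0006060c04) (Net.cons (nat_lit 8) (nat_lit 0x12009000d000c4009400f000c0004c) (Net.cons (nat_lit 16) (nat_lit 0x101a000052d000000fda0000b658) (Net.cons (nat_lit 32) (nat_lit 0xb06162940000000031315584) (Net.cons (nat_lit 64) (nat_lit 0xf37100a57ea4730e) Net.nil)))))))))))))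
noncomputable def n15 : Net := (Net.cons (nat_lit 64) (nat_lit 0x5013099564cc1200) (Net.cons (nat_lit 32) (nat_lit 0x50140090000000007e763bb0) (Net.cons (nat_lit 16) (nat_lit 0x50910000f028000061c60000f02c) (Net.cons (nat_lit 8) (nat_lit 0x520028008b004600c500d100c4) (Net.cons (nat_lit 4) (nat_lit 0xc080409010e0709080205060c060e) (Net.cons (nat_lit 2) (nat_lit 0x122010032210131220232202300020) (Net.cons (nat_lit 1) (nat_lit 0x1104110041411014140144540041) (Net.cons (nat_lit 2) (nat_lit 0x2000220022222022000220000020) (Net.cons (nat_lit 4) (nat_lit 0xc080402000408040e000a080c0006) (Net.cons (nat_lit 8) (nat_lit 0x52002800a200a4005a001000c4) (Net.cons (nat_lit 16) (nat_lit 0x50900000a60000001ce00000f02c) (Net.cons (nat_lit 32) (nat_lit 0x50140090000000007e763bb0) (Net.cons (nat_lit 64) (nat_lit 0x50130995648c1200) Net.nil)))))))))))))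
noncomputable def n16 : Net := (Net.cons (nat_lit 64) (nat_lit 0x6f89a464ba2207c6) (Net.cons (nat_lit 32) (nat_lit 0x25484c3600000000ffa26492) (Net.cons (nat_lit 16) (nat_lit 0x82970000f4120000865400008b12) (Net.cons (nat_lit 8) (nat_lit 0x680022001f00fa005a00a7004b0004) (Net.cons (nat_lit 4) (nat_lit 0x80c040a0c030f0b030a05060d010006) (Net.cons (nat_lit 2) (nat_lit 0x102020020231300332003103011023) (Net.cons (nat_lit 1) (nat_lit 0x4114041411140440410001405140001) (Net.cons (nat_lit 2) (nat_lit 0x202022020200220220000200000002) (Net.cons (nat_lit 4) (nat_lit 0x8080400040a0008000800040c020406) (Net.cons (nat_lit 8) (nat_lit 0x28002a001e00a80058003000480094) (Net.cons (nat_lit 16) (nat_lit 0xeed6000065360000ced000009b08) (Net.cons (nat_lit 32) (nat_lit 0x4c41c85400000000ffd42d90) (Net.cons (nat_lit 64) (nat_lit 0x6f89a460d7851e90) Net.nil)))))))))))))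
noncomputable def n17 : Net := (Net.cons (nat_lit 64) (nat_lit 0xcb2a78d075a67ebf) (Net.cons (nat_lit 32) (nat_lit 0x978ac67700000000bfcda236) (Net.cons (nat_lit 16) (nat_lit 0xdbce00008bdf0000816400006403) (Net.cons (nat_lit 8) (nat_lit 0xe600bf001400380002005e001400fb) (Net.cons (nat_lit 4) (nat_lit 0x2080f04060a020c03010300040f0c0d) (Net.cons (nat_lit 2) (nat_lit 0x30022120102012012002120110032211) (Net.cons (nat_lit 1) (nat_lit 0x10040150044111511411450100044114) (Net.cons (nat_lit 2) (nat_lit 0x20000020022002222000000000222) (Net.cons (nat_lit 4) (nat_lit 0x400060e020002080a02020000080a0c) (Net.cons (nat_lit 8) (nat_lit 0xe8002c001c00380082005800500074) (Net.cons (nat_lit 16) (nat_lit 0x5440000839a0000877400006444) (Net.cons (nat_lit 32) (nat_lit 0x96a2d63800000000bb8c213e) (Net.cons (nat_lit 64) (nat_lit 0xcb2a78d5a076009c) Net.nil)))))))))))))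
noncomputable def n18 : Net := (Net.cons (nat_lit 64) (nat_lit 0x7105a28e31898f81) (Net.cons (nat_lit 32) (nat_lit 0x382f179d000000006959c514) (Net.cons (nat_lit 16) (nat_lit 0xe80b00006212000025c700008588) (Net.cons (nat_lit 8) (nat_lit 0x91005400750004001d004500240042) (Net.cons (nat_lit 4) (nat_lit 0x30809040302000d0601020a080406) (Net.cons (nat_lit 2) (nat_lit 0x200113021002321021321023101000) (Net.cons (nat_lit 1) (nat_lit 0x141041045004410440014514041415) (Net.cons (nat_lit 2) (nat_lit 0x222000020000020020020002022200) (Net.cons (nat_lit 4) (nat_lit 0xa0804040400000004000808040e08) (Net.cons (nat_lit 8) (nat_lit 0xb0005c00b400c4001400040022000a) (Net.cons (nat_lit 16) (nat_lit 0xd90a0000e2560000a8a60000910c) (Net.cons (nat_lit 32) (nat_lit 0x592a1794000000006561c56c) (Net.cons (nat_lit 64) (nat_lit 0x7105a2805d1edff2) Net.nil)))))))))))))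
noncomputable def n19 : Net := (Net.cons (nat_lit 64) (nat_lit 0x76e11f011afe) (Net.cons (nat_lit 32) (nat_lit 0x43314b2600000000ff30cc05) (Net.cons (nat_lit 16) (nat_lit 0x7101000072240000534000003f28) (Net.cons (nat_lit 8) (nat_lit 0x7000490084003e003f0041005e0032) (Net.cons (nat_lit 4) (nat_lit 0x3000c08080c06000e020a010d01060c) (Net.cons (nat_lit 2) (nat_lit 0x300121020210313001310203103212) (Net.cons (nat_lit 1) (nat_lit 0x404044540450404401500445400144) (Net.cons (nat_lit 2) (nat_lit 0x200020020000200002000220200002) (Net.cons (nat_lit 4) (nat_lit 0x80006000e04080a0a000c00060a) (Net.cons (nat_lit 8) (nat_lit 0x500044006c003a001e004e000c00a8) (Net.cons (nat_lit 16) (nat_lit 0x70000000d2620000de520000be94) (Net.cons (nat_lit 32) (nat_lit 0x43314bc80000000036f5cc08) (Net.cons (nat_lit 64) (nat_lit 0x76e404736bf6) Net.nil)))))))))))))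
noncomputable def n20 : Net := (Net.cons (nat_lit 64) (nat_lit 0xb6bab939697dc97d) (Net.cons (nat_lit 32) (nat_lit 0xcc616ce100000000f09429e9) (Net.cons (nat_lit 16) (nat_lit 0x6e5100002e180000ca5b00009e8f) (Net.cons (nat_lit 8) (nat_lit 0xa4009d000a0036001d003d0050004c) (Net.cons (nat_lit 4) (nat_lit 0xa030b090e0101080b0808000e0405) (Net.cons (nat_lit 2) (nat_lit 0x133022020201022320012101300212) (Net.cons (nat_lit 1) (nat_lit 0x40544505114001054450144040150401) (Net.cons (nat_lit 2) (nat_lit 0x22000020000000200000000200200) (Net.cons (nat_lit 4) (nat_lit 0x80a0002000c00000a020c0804060000) (Net.cons (nat_lit 8) (nat_lit 0x1c000000b00000005400580010000c) (Net.cons (nat_lit 16) (nat_lit 0xcab80000ae320000825e00009a8a) (Net.cons (nat_lit 32) (nat_lit 0xdef94dde00000000b99429a8) (Net.cons (nat_lit 64) (nat_lit 0xb6bab93287661c62) Net.nil)))))))))))))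
noncomputable def n21 : Net := (Net.cons (nat_lit 64) (nat_lit 0xc7bdbbbc37d4d9af) (Net.cons (nat_lit 32) (nat_lit 0xc279ecbc0000000008610846) (Net.cons (nat_lit 16) (nat_lit 0x7070000066bd000040080000250e) (Net.cons (nat_lit 8) (nat_lit 0x2000d00007004d0050000000c00099) (Net.cons (nat_lit 4) (nat_lit 0x40704000a080103080700000100030c) (Net.cons (nat_lit 2) (nat_lit 0x101202030202310003000112300221) (Net.cons (nat_lit 1) (nat_lit 0x10010144140105144015000015140544) (Net.cons (nat_lit 2) (nat_lit 0x20020002200200000000000020220022) (Net.cons (nat_lit 4) (nat_lit 0x20604000008040e08040000060c0a0a) (Net.cons (nat_lit 8) (nat_lit 0x94009a00a40090001000040056002c) (Net.cons (nat_lit 16) (nat_lit 0x775400004524000048480000f542) (Net.cons (nat_lit 32) (nat_lit 0x875cdea80000000030610844) (Net.cons (nat_lit 64) (nat_lit 0xc7bdbbbf17bd91e0) Net.nil)))))))))))))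
noncomputable def n22 : Net := (Net.cons (nat_lit 64) (nat_lit 0xa91c6f486ec77df5) (Net.cons (nat_lit 32) (nat_lit 0xe7f3002d00000000d151f460) (Net.cons (nat_lit 16) (nat_lit 0x65450000a15c0000b5610000dc8c) (Net.cons (nat_lit 8) (nat_lit 0xe3000600100076000000a400da005c) (Net.cons (nat_lit 4) (nat_lit 0x60d000c0304040e040b05010a070c03) (Net.cons (nat_lit 2) (nat_lit 0x1100102000010011012011000001023) (Net.cons (nat_lit 1) (nat_lit 0x41410444010441111001100440414041) (Net.cons (nat_lit 2) (nat_lit 0x22020202020000200000200020020022) (Net.cons (nat_lit 4) (nat_lit 0x204060c02000c08040a040808040c0a) (Net.cons (nat_lit 8) (nat_lit 0x400600000006600e0006400f0004c) (Net.cons (nat_lit 16) (nat_lit 0x46c0000b140000021a00000cc0c) (Net.cons (nat_lit 32) (nat_lit 0xcfeb476000000000d570e460) (Net.cons (nat_lit 64) (nat_lit 0xa91c6f4a636d7de4) Net.nil)))))))))))))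
noncomputable def n23 : Net := (Net.cons (nat_lit 64) (nat_lit 0x85d8c410574e4380) (Net.cons (nat_lit 32) (nat_lit 0xc1bc6c25000000007feef740) (Net.cons (nat_lit 16) (nat_lit 0x883c000014cd0000e880000030a4) (Net.cons (nat_lit 8) (nat_lit 0x3400000055000100c1000600d80034) (Net.cons (nat_lit 4) (nat_lit 0xc040a07090c0a0804050c020b000c) (Net.cons (nat_lit 2) (nat_lit 0x23002021232301321302010200300121) (Net.cons (nat_lit 1) (nat_lit 0x11040011401404411541110000541400) (Net.cons (nat_lit 2) (nat_lit 0x2000000202200022020000000000000) (Net.cons (nat_lit 4) (nat_lit 0x808000800080c02020000000002000c) (Net.cons (nat_lit 8) (nat_lit 0x380024005400400046000400580014) (Net.cons (nat_lit 16) (nat_lit 0x4c000000919400008286000028a0) (Net.cons (nat_lit 32) (nat_lit 0x412ce8300000000077ebf6c0) (Net.cons (nat_lit 64) (nat_lit 0x85d8c41d50873280) Net.nil)))))))))))))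
noncomputable def n24 : Net := (Net.cons (nat_lit 64) (nat_lit 0x144800000000000) (Net.cons (nat_lit 32) (nat_lit 0x49e481800000000008041900) (Net.cons (nat_lit 16) (nat_lit 0x89a000003b7c0000080800001240) (Net.cons (nat_lit 8) (nat_lit 0x40000800c000b2003c008800210040) (Net.cons (nat_lit 4) (nat_lit 0x80800020e03040600090d010e0a0608) (Net.cons (nat_lit 2) (nat_lit 0x2000220320000012000000222002320) (Net.cons (nat_lit 1) (nat_lit 0x1040105041501401404440010000510) (Net.cons (nat_lit 2) (nat_lit 0x2000200020000002000000020000020) (Net.cons (nat_lit 4) (nat_lit 0x80800020e08000c000800000a000608) (Net.cons (nat_lit 8) (nat_lit 0x800c000a2001c008800200040) (Net.cons (nat_lit 16) (nat_lit 0x89a00000bb700000080800001240) (Net.cons (nat_lit 32) (nat_lit 0x49e481800000000008041900) (Net.cons (nat_lit 64) (nat_lit 0x144800000000000) Net.nil)))))))))))))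
noncomputable def n25 : Net := (Net.cons (nat_lit 64) (nat_lit 0x1d000000000000) (Net.cons (nat_lit 32) (nat_lit 0xf19d480000000000efabf000) (Net.cons (nat_lit 16) (nat_lit 0xf8000000101900000a0000008700) (Net.cons (nat_lit 8) (nat_lit 0x4900f0001000e0003100e200f40000) (Net.cons (nat_lit 4) (nat_lit 0x4000f040e0604080a00050c040700) (Net.cons (nat_lit 2) (nat_lit 0x2220013120201322032022000021100) (Net.cons (nat_lit 1) (nat_lit 0x1110014005440004400001100040000) (Net.cons (nat_lit 2) (nat_lit 0x2220002000200002000000200020000) (Net.cons (nat_lit 4) (nat_lit 0x40e04040800000a00040000) (Net.cons (nat_lit 8) (nat_lit 0x4000f0001000e0003000e200c40000) (Net.cons (nat_lit 16) (nat_lit 0xf8000000101800000a0000000700) (Net.cons (nat_lit 32) (nat_lit 0xf19d480000000000efabf000) (Net.cons (nat_lit 64) (nat_lit 0x1d000000000000) Net.nil)))))))))))))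
noncomputable def n26 : Net := (Net.cons (nat_lit 64) (nat_lit 0x7a692514751811cd) (Net.cons (nat_lit 32) (nat_lit 0x4c61eea5000000006af45b57) (Net.cons (nat_lit 16) (nat_lit 0x54080000132a00009cb40000c895) (Net.cons (nat_lit 8) (nat_lit 0x600c00092004200f2001d00d10090) (Net.cons (nat_lit 4) (nat_lit 0x80a01050805050b08000800080e0a01) (Net.cons (nat_lit 2) (nat_lit 0x12321300112232022120202310232) (Net.cons (nat_lit 1) (nat_lit 0x40410154110404141144440401141014) (Net.cons (nat_lit 2) (nat_lit 0x200200200002220202000002000002) (Net.cons (nat_lit 4) (nat_lit 0x80c08060208040808000c0800060804) (Net.cons (nat_lit 8) (nat_lit 0x2e0040008200420082001000540010) (Net.cons (nat_lit 16) (nat_lit 0x360000000270000016d40000c894) (Net.cons (nat_lit 32) (nat_lit 0x4e40cab0000000006fe08bf0) (Net.cons (nat_lit 64) (nat_lit 0x7a69251c65deb3ec) Net.nil)))))))))))))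
noncomputable def n27 : Net := (Net.cons (nat_lit 64) (nat_lit 0x624816422625b4b4) (Net.cons (nat_lit 32) (nat_lit 0xf37f25100000000161c65f6) (Net.cons (nat_lit 16) (nat_lit 0x175700003288000025c800007571) (Net.cons (nat_lit 8) (nat_lit 0x5c00e2008000b2007600fe005d00d0) (Net.cons (nat_lit 4) (nat_lit 0x8010007080008000000080008040f0b) (Net.cons (nat_lit 2) (nat_lit 0x2010032120001122202020201232133) (Net.cons (nat_lit 1) (nat_lit 0x44110141000004104011154114044115) (Net.cons (nat_lit 2) (nat_lit 0x22020020000002002002200200002020) (Net.cons (nat_lit 4) (nat_lit 0x8000008080008060400000408040400) (Net.cons (nat_lit 8) (nat_lit 0x4600e600000092007800fe007c00b8) (Net.cons (nat_lit 16) (nat_lit 0x7518000020480000205600008c62) (Net.cons (nat_lit 32) (nat_lit 0x4d7ff01200000000062e8c70) (Net.cons (nat_lit 64) (nat_lit 0x62481644ada95892) Net.nil)))))))))))))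
noncomputable def n28 : Net := (Net.cons (nat_lit 64) (nat_lit 0x857ea293101ea027) (Net.cons (nat_lit 32) (nat_lit 0x32fabdd000000009f7f8b49) (Net.cons (nat_lit 16) (nat_lit 0x86b0000be0e00007aee00006a97) (Net.cons (nat_lit 8) (nat_lit 0x57004b000c00d400d50037005800e8) (Net.cons (nat_lit 4) (nat_lit 0x50006040702060c0706000900040706) (Net.cons (nat_lit 2) (nat_lit 0x32030300211012030001023300003201) (Net.cons (nat_lit 1) (nat_lit 0x15040540011040151051455400411001) (Net.cons (nat_lit 2) (nat_lit 0x20020020002000000002200200022002) (Net.cons (nat_lit 4) (nat_lit 0x4000c040c020e0602040a0200080c06) (Net.cons (nat_lit 8) (nat_lit 0x520048001a00d0008000b0004800c0) (Net.cons (nat_lit 16) (nat_lit 0x8b3c00007a880000ef8800001296) (Net.cons (nat_lit 32) (nat_lit 0x71989c8000000009dfed666) (Net.cons (nat_lit 64) (nat_lit 0x857ea293dc89e6a6) Net.nil)))))))))))))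
noncomputable def n29 : Net := (Net.cons (nat_lit 64) (nat_lit 0xda074daa5fcecc0a) (Net.cons (nat_lit 32) (nat_lit 0x14ce2cc000000006712d0b5) (Net.cons (nat_lit 16) (nat_lit 0x120e000080bd0000218c00002349) (Net.cons (nat_lit 8) (nat_lit 0xc200df00400058004a009a00660003) (Net.cons (nat_lit 4) (nat_lit 0x4000a08080300080c0e0d030c090704) (Net.cons (nat_lit 2) (nat_lit 0x3010233223320332210030012033210) (Net.cons (nat_lit 1) (nat_lit 0x1414410041410150414151011144100) (Net.cons (nat_lit 2) (nat_lit 0x20220022020200202202022002200) (Net.cons (nat_lit 4) (nat_lit 0x4040402080000080808060000080600) (Net.cons (nat_lit 8) (nat_lit 0x800034007e00cc0008003800c2000a) (Net.cons (nat_lit 16) (nat_lit 0xd20c0000983c000021940000be58) (Net.cons (nat_lit 32) (nat_lit 0x994eaa6000000000664a60a4) (Net.cons (nat_lit 64) (nat_lit 0xda074daa5fcecd0a) Net.nil)))))))))))))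
noncomputable def n30 : Net := (Net.cons (nat_lit 64) (nat_lit 0x938b6a6d6d2b532) (Net.cons (nat_lit 32) (nat_lit 0x789357aa00000000a10ea02e) (Net.cons (nat_lit 16) (nat_lit 0x431200001144000090140000231a) (Net.cons (nat_lit 8) (nat_lit 0x4a0025004c002e00b300e9002e0050) (Net.cons (nat_lit 4) (nat_lit 0x108000c0a0b0406080c0b000a00) (Net.cons (nat_lit 2) (nat_lit 0x2201002301002301203000311202201) (Net.cons (nat_lit 1) (nat_lit 0x11411001144001544400104554141401) (Net.cons (nat_lit 2) (nat_lit 0x2002000220000000200202002220200) (Net.cons (nat_lit 4) (nat_lit 0x40a000c020c0004080400080a04) (Net.cons (nat_lit 8) (nat_lit 0x6200300040000a003600e800780046) (Net.cons (nat_lit 16) (nat_lit 0x33b2000011440000101400006b0c) (Net.cons (nat_lit 32) (nat_lit 0x78b3d328000000006508a12c) (Net.cons (nat_lit 64) (nat_lit 0x938b6ac96b75130) Net.nil)))))))))))))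
noncomputable def n31 : Net := (Net.cons (nat_lit 64) (nat_lit 0x654433964dfbbe76) (Net.cons (nat_lit 32) (nat_lit 0x599d2be70000000000bac747) (Net.cons (nat_lit 16) (nat_lit 0x15a50000d030000093af00000565) (Net.cons (nat_lit 8) (nat_lit 0x1d00e800c60080002d0050007e0051) (Net.cons (nat_lit 4) (nat_lit 0x10503030600000a0c00080f020c080b) (Net.cons (nat_lit 2) (nat_lit 0x32211203011201002002022000311023) (Net.cons (nat_lit 1) (nat_lit 0x41101101114440014001401414050014) (Net.cons (nat_lit 2) (nat_lit 0x22000200000220020002002000000022) (Net.cons (nat_lit 4) (nat_lit 0x4040e020404020a0c000004000e000a) (Net.cons (nat_lit 8) (nat_lit 0x400ec00940004002400980044004c) (Net.cons (nat_lit 16) (nat_lit 0x3ce80000b034000091a600003558) (Net.cons (nat_lit 32) (nat_lit 0x599d0b64000000000233c740) (Net.cons (nat_lit 64) (nat_lit 0x6544339c0473ae10) Net.nil)))))))))))))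
noncomputable def n32 : Net := (Net.cons (nat_lit 64) (nat_lit 0x2081902bfcb30002) (Net.cons (nat_lit 32) (nat_lit 0x682012820000000097020e6a) (Net.cons (nat_lit 16) (nat_lit 0xa000000dd4d000090140000e000) (Net.cons (nat_lit 8) (nat_lit 0xa2008800f2003c0078009800350060) (Net.cons (nat_lit 4) (nat_lit 0xc080104020508080a080a000e) (Net.cons (nat_lit 2) (nat_lit 0x2022103122012000011003210020) (Net.cons (nat_lit 1) (nat_lit 0x40011041014041014440100100100111) (Net.cons (nat_lit 2) (nat_lit 0x2022002022002000000000200020) (Net.cons (nat_lit 4) (nat_lit 0xc00040402040800020808000a) (Net.cons (nat_lit 8) (nat_lit 0x82008000a200080030001000300060) (Net.cons (nat_lit 16) (nat_lit 0xa0000007d48000090100000e000) (Net.cons (nat_lit 32) (nat_lit 0x682012800000000097020e68) (Net.cons (nat_lit 64) (nat_lit 0x20819029fcb30000) Net.nil)))))))))))))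
noncomputable def n33 : Net := (Net.cons (nat_lit 64) (nat_lit 0xb4c0503afe3b4000) (Net.cons (nat_lit 32) (nat_lit 0xbfc1584600000000d4cb6278) (Net.cons (nat_lit 16) (nat_lit 0x5b440000845c0000e2dd0000fe30) (Net.cons (nat_lit 8) (nat_lit 0xc0003900d400e3001c00e20000002c) (Net.cons (nat_lit 4) (nat_lit 0x208030404000004010704050f00040b) (Net.cons (nat_lit 2) (nat_lit 0x32010001201022133223232002022300) (Net.cons (nat_lit 1) (nat_lit 0x14041004404014554141411150044411) (Net.cons (nat_lit 2) (nat_lit 0x20000000202022002222022000002220) (Net.cons (nat_lit 4) (nat_lit 0x20c000404020404000c00080e000008) (Net.cons (nat_lit 8) (nat_lit 0x80003000700030000c00ea0000002c) (Net.cons (nat_lit 16) (nat_lit 0x4b44000034680000aa400000fd30) (Net.cons (nat_lit 32) (nat_lit 0x3f4158600000000095caee76) (Net.cons (nat_lit 64) (nat_lit 0xb4c05036edfb0020) Net.nil)))))))))))))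
noncomputable def n34 : Net := (Net.cons (nat_lit 64) (nat_lit 0x2081902bfcb30002) (Net.cons (nat_lit 32) (nat_lit 0x682012820000000097020e6a) (Net.cons (nat_lit 16) (nat_lit 0xa000000dd4d000090140000e000) (Net.cons (nat_lit 8) (nat_lit 0xa2008800f2003c0078009800350060) (Net.cons (nat_lit 4) (nat_lit 0xc080104020508080a080a000e) (Net.cons (nat_lit 2) (nat_lit 0x2022103122012000011003210020) (Net.cons (nat_lit 1) (nat_lit 0x40011041014041014440100100100111) (Net.cons (nat_lit 2) (nat_lit 0x2022002022002000000000200020) (Net.cons (nat_lit 4) (nat_lit 0xc00040402040800020808000a) (Net.cons (nat_lit 8) (nat_lit 0x82008000a200080030001000300060) (Net.cons (nat_lit 16) (nat_lit 0xa0000007d48000090100000e000) (Net.cons (nat_lit 32) (nat_lit 0x682012800000000097020e68) (Net.cons (nat_lit 64) (nat_lit 0x20819029fcb30000) Net.nil)))))))))))))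
noncomputable def n35 : Net := (Net.cons (nat_lit 64) (nat_lit 0x5013099564cc1200) (Net.cons (nat_lit 32) (nat_lit 0x50140090000000007e763bb0) (Net.cons (nat_lit 16) (nat_lit 0x50910000f028000061c60000f02c) (Net.cons (nat_lit 8) (nat_lit 0x520028008b004600c500d100c4) (Net.cons (nat_lit 4) (nat_lit 0xc080409010e0709080205060c060e) (Net.cons (nat_lit 2) (nat_lit 0x122010032210131220232202300020) (Net.cons (nat_lit 1) (nat_lit 0x1104110041411014140144540041) (Net.cons (nat_lit 2) (nat_lit 0x2000220022222022000220000020) (Net.cons (nat_lit 4) (nat_lit 0xc080402000408040e000a080c0006) (Net.cons (nat_lit 8) (nat_lit 0x52002800a200a4005a001000c4) (Net.cons (nat_lit 16) (nat_lit 0x50900000a60000001ce00000f02c) (Net.cons (nat_lit 32) (nat_lit 0x50140090000000007e763bb0) (Net.cons (nat_lit 64) (nat_lit 0x50130995648c1200) Net.nil)))))))))))))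
noncomputable def nl2 : List Net := [n13, n14, n15, n16, n17, n18, n19, n20, n21, n22, n23, n24, n25, n26, n27, n28, n29, n30, n31, n32, n33, n34, n35]
theorem nl2_ok : allL (Net.ok (nat_lit 128)) nl2 = true := by decide +kernel
noncomputable def nl : List Net := [H0.MJ2p.n0, H0.MJ2p.n1, H0.MJ2p.n2, H0.MJ2p.n3, H0.MJ2p.n4, H0.MJ2p.n5, H0.MJ2p.n6, H0.MJ2p.n7, H0.MJ2p.n8, H0.MJ2p.n9, H0.MJ2p.n10, H0.MJ2p.n11, H0.MJ2p.n12, n13, n14, n15, n16, n17, n18, n19, n20, n21, n22, n23, n24, n25, n26, n27, n28, n29, n30, n31, n32, n33, n34, n35]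
theorem nl_ok : allL (Net.ok (nat_lit 128)) nl = true := allL_append H0.MJ2p.nl_ok nl2_ok
noncomputable def R : Rep := mkRep (nat_lit 7) (nat_lit 128) nl (by decide +kernel) nl_ok
def defs : List (List ℕ) := [[1, 1, 3, 5, 3, 3, 3, 5, 3, 3, 6, 8, 10, 10], [0, 1, 0, 1, 0, 1, 1, 0, 1, 1, 0, 1, 1, 5, 3, 5, 3, 3, 6, 8, 8, 6, 10], [0, 1, 0, 1, 0, 1, 0, 1, 1, 0, 1, 0, 1, 1, 0, 3, 5, 8, 6, 6, 8, 6, 10], [13, 13, 14, 15], [14, 14, 15, 13], [17, 17, 17, 16, 17, 17, 16, 16, 16, 17], [16, 16, 16, 16, 16, 17, 17, 16, 16, 17, 17], [18, 19, 19, 18, 18, 18], [18, 18, 18, 19, 19, 19, 18], [21, 21, 20, 21], [20, 20, 21, 21, 21], [22, 23, 23, 22], [22, 22, 23, 23, 23], [16, 16, 17, 16, 16, 16, 17, 17], [17, 17, 17, 17, 16, 17, 17, 16, 16, 16], [27, 26, 26, 27, 27, 27], [26, 27, 26, 27, 27, 26, 26, 26, 27, 26, 27], [28, 28, 28, 28, 28, 29], [29, 28, 28, 28, 29, 29, 29], [30, 31, 31, 31, 30], [30, 31, 30, 30, 31], [32, 33, 33, 33], [0, 1, 0, 1, 0, 1, 0, 1, 1, 0, 1, 0, 1, 1, 0, 3, 5, 8, 6, 6, 8, 6, 10]]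
def xch : List Model.Lev := [(9, [[16], [17]], 100), (7, [[18], [19]], 36), (37, [[20], [21]], 7), (0, [[22], [23]], 6), (89, [[24], [25]], 4)]
def xCg : List (List ℕ) := [[13]]
def xc14 : List ℕ := [37]
noncomputable def xD1 : ℕ := Nat.xor (ival 0 100) (bitsL [7, 9])
def xc17 : List ℕ := [7]
def xL19 : List Leaf := [([12, 67, 34, 50], [22, 23, 22, 20, 20, 21, 16, 17], 38, 2, 1, 0)]
def xc20 : List ℕ := [50]
def xc22 : List ℕ := [9]
noncomputable def xD0 : ℕ := Nat.xor (ival 0 100) (bitsL [7, 9])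
def xc25 : List ℕ := [7, 9]
noncomputable def xOT : OTab := [([7, 9], xO0), ([9], xO1), ([0, 37, 7, 9], xO2), ([], xO3)]
def ych : List Model.Lev := [(67, [[16], [17]], 100), (38, [[26], [27]], 36), (7, [[28], [29]], 7), (9, [[30], [31]], 4), (91, [[32], [33]], 3), (41, [[34]], 2)]
def yCg : List (List ℕ) := [[14], [35]]
def yc47 : List ℕ := [91]
noncomputable def yD1 : ℕ := Nat.xor (ival 0 100) (bitsL [7, 9, 38, 67])
def yc50 : List ℕ := [7]
noncomputable def yD0 : ℕ := Nat.xor (ival 0 100) (bitsL [7, 9, 38, 67])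
def yc53 : List ℕ := [67]
noncomputable def yOT : OTab := [([9, 7, 38, 67], yO0), ([38, 67], yO1), ([], yO2)]
def CL : List (List ℕ) := [[], [14], [35], [14, 14], [35, 14], [14, 14, 14], [35, 14, 14], [14, 14, 14, 14], [35, 14, 14, 14], [14, 14, 14, 14, 14], [35, 14, 14, 14, 14], [35, 14, 14, 14, 14, 14]]
def RL : List (List ℕ) := [[2, 2], [0, 1, 2, 0, 1, 2, 0, 1, 2, 0, 1, 2, 0, 1, 2, 0, 1, 2, 0, 1, 2]]
def CE : List (List ℕ × List ℕ) := [([14], [14]), ([14, 14], [14, 14]), ([14, 35], [35, 14]), ([14, 14, 14], [14, 14, 14]), ([14, 35, 14], [35, 14, 14]), ([14, 14, 14, 14], [14, 14, 14, 14]), ([14, 35, 14, 14], [35, 14, 14, 14]), ([14, 14, 14, 14, 14], [14, 14, 14, 14, 14]), ([14, 35, 14, 14, 14], [35, 14, 14, 14, 14]), ([14, 14, 14, 14, 14, 14], []), ([14, 35, 14, 14, 14, 14], [35, 14, 14, 14, 14, 14]), ([14, 35, 14, 14, 14, 14, 14], [35]), ([35], [35]), ([35, 14], [35, 14]), ([35, 35], []), ([35, 14, 14], [35, 14, 14]), ([35, 35, 14], [14]), ([35, 14, 14, 14], [35, 14, 14, 14]), ([35,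 35, 14, 14], [14, 14]), ([35, 14, 14, 14, 14], [35, 14, 14, 14, 14]), ([35, 35, 14, 14, 14], [14, 14, 14]), ([35, 14, 14, 14, 14, 14], [35, 14, 14, 14, 14, 14]), ([35, 35, 14, 14, 14, 14], [14, 14, 14, 14]), ([35, 35, 14, 14, 14, 14, 14], [14, 14, 14, 14, 14])]
def EL : List Elim := [((1, []), 0, 0, 0), ((1, [14]), 0, 0, 91), ((1, [35]), 1, 0, 14), ((1, [14, 14]), 0, 0, 93), ((1, [35, 14]), 0, 0, 91), ((1, [14, 14, 14]), 0, 0, 0), ((1, [35, 14, 14]), 0, 0, 93), ((1, [14, 14, 14, 14]), 0, 0, 91), ((1, [35, 14, 14, 14]), 1, 0, 91), ((1, [14, 14, 14, 14, 14]), 0, 0, 93), ((1, [35, 14, 14, 14, 14]), 0, 0, 91), ((1, [35, 14, 14, 14, 14, 14]), 0, 0, 93)]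
def NL : List (List ℕ × Bool × ℕ × ℕ × ℕ) := [([], true, 0, 53, 61), ([14], false, 0, 50, 14), ([35], false, 0, 85, 30), ([14, 14], false, 0, 98, 38), ([35, 14], false, 0, 6, 59), ([14, 14, 14], false, 0, 14, 50), ([35, 14, 14], false, 0, 94, 95), ([14, 14, 14, 14], false, 0, 37, 91), ([35, 14, 14, 14], false, 0, 87, 19), ([14, 14, 14, 14, 14], false, 0, 34, 8), ([35, 14, 14, 14, 14], false, 0, 2, 54), ([35, 14, 14, 14, 14, 14], false, 0, 92, 99)]
theorem nl3_ok : allL (Net.ok (nat_lit 128)) (nl ++ [s36]) = true := allL_append nl_ok (by decide +kernel)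
noncomputable def R2 : Rep := mkRep (nat_lit 7) (nat_lit 128) (nl ++ [s36]) (by decide +kernel) nl3_ok
theorem c0 : Model.fixP R [0, 37, 7, 9] [[24], [25]] = true := by decide +kernel
theorem c1 : Model.growP R [[24], [25]] [0, 1] 89 4 = true := by decide +kernel
theorem c2 : Model.fixP R [37, 7, 9] [[22], [23]] = true := by decide +kernel
theorem c3 : Model.growP R [[22], [23]] [0, 1, 0] 0 6 = true := by decide +kernel
theorem c4 : Model.fixP R [7, 9] [[20], [21]] = true := by decide +kernel
theorem c5 : Model.growP R [[20], [21]] [0, 0, 1, 0] 37 7 = true := by decide +kernel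
theorem c6 : Model.fixP R [9] [[18], [19]] = true := by decide +kernel
theorem c7 : Model.growP R [[18], [19]] [0, 1, 0, 1, 0, 1, 0, 1, 0, 1] 7 36 = true := by decide +kernel
theorem c8 : Model.fixP R [] [[16], [17]] = true := by decide +kernel
theorem c9 : Model.growP R [[16], [17]] [0, 1, 0, 1, 0, 1, 0, 1, 0, 1, 0, 1, 0, 1] 9 100 = true := by decide +kernel
theorem c10 : cycB R (subst [[13]] []) [9] = true := by decide +kernel
theorem c11 : cycB R (subst [[13]] []) [7] = true := by decide +kernel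
theorem c12 : cycB R (subst [[13]] [0]) [93, 89, 0, 37] = true := by decide +kernel
theorem c13 : cycB R (subst [[13]] [0]) [93, 89, 0, 37] = true := by decide +kernel
theorem c14 : freeB R xOT [[13]] xCg [0, 1] [7, 9] [7, 9] [] 37 0 [([], 37, 0)] [[0]] [0, 0, 0, 0, 0, 0] xc14 = true := by decide +kernel
theorem c15 : cycB R (subst [[13]] []) [7] = true := by decide +kernel
theorem c16 : exclB R (subst [[13]] [0]) 7 xD1 = true := by decide +kernel
theorem c17 : freeB R xOT [[13]] xCg [0] [9] [9] [] 7 xD1 [([], 7, 1)] [[0]] [] xc17 = true := by decide +kernel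
theorem c18 : cycB R (subst [[13]] []) [9] = true := by decide +kernel
theorem c19 : allL (leafB R xOT (subst [[13]] [0]) [1, 2, 3, 4, 5] [93, 89, 0, 37] [7, 9] [9, 7]) xL19 = true := by decide +kernel
theorem c20 : freeB R xOT [[13]] xCg [0, 1] [7, 9] [9, 7] [16, 17] 37 0 [([], 37, 0)] [[0]] [0, 0, 0, 0, 0, 0] xc20 = true := by decide +kernel
theorem c21 : cycB R (subst [[13]] []) [9] = true := by decide +kernel
theorem c22 : freeB R xOT [[13]] xCg [0] [9] [7] [16, 17] 7 xD1 [([], 7, 1)] [[0]] [] xc22 = true := by decide +kernel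
theorem c23 : cycB R (subst [[13]] []) [7] = true := by decide +kernel
theorem c24 : exclB R (subst [[13]] [0]) 9 xD0 = true := by decide +kernel
theorem c25 : freeB R xOT [[13]] xCg [] [] [] [] 9 xD0 [([], 9, 3)] [[0]] [] xc25 = true := by decide +kernel
theorem c26 : Model.invB R (Model.cgens (xch.drop 0)) xO3 = true := by decide +kernel
theorem c27 : Model.invB R (Model.cgens (xch.drop 4)) xO2 = true := by decide +kernel
theorem c28 : Model.invB R (Model.cgens (xch.drop 1)) xO1 = true := by decide +kernel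
theorem c29 : Model.invB R (Model.cgens (xch.drop 2)) xO0 = true := by decide +kernel
theorem c30 : pairsB R [1, 68, 37, 0] (((xCg.flatMap fun w => [[13]].map fun y => (w ++ y, y ++ w)).drop 0).take 1) = true := by decide +kernel
theorem c31 : Model.fixP R [91, 9, 7, 38, 67] [[34]] = true := by decide +kernel
theorem c32 : Model.growP R [[34]] [0] 41 2 = true := by decide +kernel
theorem c33 : Model.fixP R [9, 7, 38, 67] [[32], [33]] = true := by decide +kernel
theorem c34 : Model.growP R [[32], [33]] [1, 0] 91 3 = true := by decide +kernel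
theorem c35 : Model.fixP R [7, 38, 67] [[30], [31]] = true := by decide +kernel
theorem c36 : Model.growP R [[30], [31]] [0, 1] 9 4 = true := by decide +kernel
theorem c37 : Model.fixP R [38, 67] [[28], [29]] = true := by decide +kernel
theorem c38 : Model.growP R [[28], [29]] [0, 1, 0, 0] 7 7 = true := by decide +kernel
theorem c39 : Model.fixP R [67] [[26], [27]] = true := by decide +kernel
theorem c40 : Model.growP R [[26], [27]] [0, 1, 0, 1, 0, 1, 0, 0, 0] 38 36 = true := by decide +kernel
theorem c41 : Model.fixP R [] [[16], [17]] = true := by decide +kernel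
theorem c42 : Model.growP R [[16], [17]] [0, 1, 0, 1, 0, 1, 0, 1, 0, 1, 0, 1, 0, 0] 67 100 = true := by decide +kernel
theorem c43 : cycB R (subst [[14]] [0]) [38, 67] = true := by decide +kernel
theorem c44 : cycB R (subst [[14]] [0]) [9, 7] = true := by decide +kernel
theorem c45 : cycB R (subst [[14]] [0]) [41, 91] = true := by decide +kernel
theorem c46 : cycB R (subst [[14]] [0]) [41, 91] = true := by decide +kernel
theorem c47 : freeB R yOT [[14]] yCg [0, 1, 2, 3] [9, 7, 38, 67] [9, 7, 38, 67] [] 91 0 [([], 91, 0)] [[0, 0]] [0, 0] yc47 = true := by decide +kernel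
theorem c48 : cycB R (subst [[14]] [0]) [9, 7] = true := by decide +kernel
theorem c49 : exclB R (subst [[14]] [0, 0]) 7 yD1 = true := by decide +kernel
theorem c50 : freeB R yOT [[14]] yCg [0, 1] [38, 67] [38, 67] [] 7 yD1 [([], 7, 1)] [[0, 0]] [] yc50 = true := by decide +kernel
theorem c51 : cycB R (subst [[14]] [0]) [38, 67] = true := by decide +kernel
theorem c52 : exclB R (subst [[14]] [0, 0]) 67 yD0 = true := by decide +kernel
theorem c53 : freeB R yOT [[14]] yCg [] [] [] [] 67 yD0 [([], 67, 2)] [[0], [1]] [0, 1] yc53 = true := by decide +kernel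
theorem c54 : Model.invB R (Model.cgens (ych.drop 0)) yO2 = true := by decide +kernel
theorem c55 : Model.invB R (Model.cgens (ych.drop 2)) yO1 = true := by decide +kernel
theorem c56 : Model.invB R (Model.cgens (ych.drop 4)) yO0 = true := by decide +kernel
theorem c57 : pairsB R [1, 68, 37, 0] (((yCg.flatMap fun w => [[14]].map fun y => (w ++ y, y ++ w)).drop 0).take 2) = true := by decide +kernel
theorem c58 : pairsB R [1, 68, 37, 0] ((CE.drop 0).take 24) = true := by decide +kernel
theorem c59 : pairsB R [1, 68, 37, 0] (((Model.outE 13 14 15 [14] 7 3 1 1 RL).drop 0).take 6) = true := by decide +kernel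
theorem c60 : neB R [13] [] 0 89 0 = true := by decide +kernel
theorem c61 : allL (elimB R 13 14 15 RL [(1, []), (1, [14, 14, 14])]) ((EL.drop 0).take 12) = true := by decide +kernel
theorem c62 : allL (innB R 13 15 1 [14, 14, 14]) ((NL.drop 0).take 12) = true := by decide +kernel
theorem c63 : eqW R2 0 R2.lg [36, 13] [13, 36] = true := by decide +kernel
theorem c64 : eqW R2 0 R2.lg [36, 14] [14, 36] = true := by decide +kernel
theorem c65 : eqW R2 0 R2.lg [36, 15] [15, 14, 14, 14, 36] = true := by decide +kernel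
theorem c66 : defsChk R defs 13 = true := by decide +kernel
end H0.OJ2p
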