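import Cfsg.Agent.H0.OJ2p.D
set_option maxRecDepth 100000
set_option Elab.async false
set_option linter.unusedSectionVars false
namespace H0.OJ2p
open H0 BN 
theorem defs_ok : DefsOK R.p defs 13 := defsOK_of_chk c66
universe u
variable {G : Type u} [Group G] [Finite G] (m0 : Model G) (h0 : m0.R = H0.MJ2p.R)
noncomputable def m : Model G := m0.ext (lg := nat_lit 7) (N := nat_lit 128) (l := H0.MJ2p.nl) h0 nl nl_ok 13 rfl defs defs_ok (by decide +kernel)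
theorem mR : (m m0 h0).R = R := rfl
variable (hb : m0.pst [1, 68, 37, 0] = ⊥) (hc : Nat.card G = 604800)
include h0 hb hc
theorem base : (m m0 h0).pst [1, 68, 37, 0] = ⊥ := hb
omit hb hc in
theorem xch_ok : (m m0 h0).ChainOK xch [] := ((m m0 h0).chain_cons [0, 1, 0, 1, 0, 1, 0, 1, 0, 1, 0, 1, 0, 1] (Model.via _ (mR m0 h0) (fun R => Model.fixP R [] [[16], [17]]) c8) (Model.via _ (mR m0 h0) (fun R => Model.growP R [[16], [17]] [0, 1, 0, 1, 0, 1, 0, 1, 0, 1, 0, 1, 0, 1] 9 100) c9) ((m m0 h0).chain_cons [0, 1, 0, 1, 0, 1, 0, 1, 0, 1] (Model.via _ (mR m0 h0) (fun R => Model.fixP R [9] [[18], [19]]) c6) (Model.via _ (mR m0 h0) (fun R => Model.growP R [[18], [19]] [0, 1, 0, 1, 0, 1, 0, 1, 0, 1] 7 36) c7) ((m m0 h0).chain_cons [0, 0, 1, 0] (Model.via _ (mR m0 h0) (fun R => Model.fixP R [7, 9] [[20], [21]]) c4) (Model.via _ (mR m0 h0) (fun R => Model.growP R [[20], [21]] [0, 0, 1, 0] 37 7) c5) ((m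 m0 h0).chain_cons [0, 1, 0] (Model.via _ (mR m0 h0) (fun R => Model.fixP R [37, 7, 9] [[22], [23]]) c2) (Model.via _ (mR m0 h0) (fun R => Model.growP R [[22], [23]] [0, 1, 0] 0 6) c3) ((m m0 h0).chain_cons [0, 1] (Model.via _ (mR m0 h0) (fun R => Model.fixP R [0, 37, 7, 9] [[24], [25]]) c0) (Model.via _ (mR m0 h0) (fun R => Model.growP R [[24], [25]] [0, 1] 89 4) c1) ((m m0 h0).chain_nil _))))))
theorem xtop : gen (m m0 h0).g (Model.cgens xch) = ⊤ := (m m0 h0).chain_top (xch_ok m0 h0) (hc.trans (by decide +kernel))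
theorem xbdd : (m m0 h0).Bdd := (m m0 h0).bdd_of_top (xtop m0 h0 hb hc)
theorem xot : (m m0 h0).OTOK xOT := ((m m0 h0).otok_cons (xch_ok m0 h0) (hc.trans (by decide +kernel)) 2 rfl (Model.via _ (mR m0 h0) (fun R => Model.invB R (Model.cgens (xch.drop 2)) xO0) c29) ((m m0 h0).otok_cons (xch_ok m0 h0) (hc.trans (by decide +kernel)) 1 rfl (Model.via _ (mR m0 h0) (fun R => Model.invB R (Model.cgens (xch.drop 1)) xO1) c28) ((m m0 h0).otok_cons (xch_ok m0 h0) (hc.trans (by decide +kernel)) 4 rfl (Model.via _ (mR m0 h0) (fun R => Model.invB R (Model.cgens (xch.drop 4)) xO2) c27) ((m m0 h0).otok_cons (xch_ok m0 h0) (hc.trans (by decide +kernel)) 0 rfl (Model.via _ (mR m0 h0) (fun R => Model.invB R (Model.cgens (xch.drop 0)) xO3) c26) (m m0 h0).otok_nil))))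
theorem xcm : ∀ w ∈ xCg, (m m0 h0).Cm [[13]] (ev (m m0 h0).g w) := (m m0 h0).cm_of_pairs (all_take_done (all_take_step (all_take_zero _ (xCg.flatMap fun w => [[13]].map fun y => (w ++ y, y ++ w))) ((m m0 h0).pairs_of (base m0 h0 hb hc) (Model.via _ (mR m0 h0) (fun R => pairsB R [1, 68, 37, 0] (((xCg.flatMap fun w => [[13]].map fun y => (w ++ y, y ++ w)).drop 0).take 1)) c30))) (by decide +kernel))
theorem xn3 : (m m0 h0).Sol [[13]] xCg [93, 89, 0, 37, 7, 9] [93, 89, 0, 37, 7, 9] := (m m0 h0).sol_done [1, 2, 3, 4, 5] (((m m0 h0).chain_bot (xch_ok m0 h0) (hc.trans (by decide +kernel))).le.trans bot_le) (by decide +kernel)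
theorem xn2 : (m m0 h0).Sol [[13]] xCg [7, 9] [7, 9] := (m m0 h0).sol_free (xbdd m0 h0 hb hc) (xcm m0 h0 hb hc) (xot m0 h0 hb hc) ((m m0 h0).excl_zero _ _) (Model.via _ (mR m0 h0) (fun R => freeB R xOT [[13]] xCg [0, 1] [7, 9] [7, 9] [] 37 0 [([], 37, 0)] [[0]] [0, 0, 0, 0, 0, 0] xc14) c14) ((m m0 h0).solL_cons ((m m0 h0).sol_cyc [0] (Bc := [93, 89, 0, 37]) (T := [93, 89, 0, 37]) rfl (Model.via _ (mR m0 h0) (fun R => cycB R (subst [[13]] [0]) [93, 89, 0, 37]) c12) (Model.via _ (mR m0 h0) (fun R => cycB R (subst [[13]] [0]) [93, 89, 0, 37]) c13) (xn3 m0 h0 hb hc)) (m m0 h0).solL_nil)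
theorem xn1 : (m m0 h0).Sol [[13]] xCg [9] [9] := (m m0 h0).sol_free (xbdd m0 h0 hb hc) (xcm m0 h0 hb hc) (xot m0 h0 hb hc) ((m m0 h0).excl_mov (xbdd m0 h0 hb hc) [0] (Model.via _ (mR m0 h0) (fun R => exclB R (subst [[13]] [0]) 7 xD1) c16)) (Model.via _ (mR m0 h0) (fun R => freeB R xOT [[13]] xCg [0] [9] [9] [] 7 xD1 [([], 7, 1)] [[0]] [] xc17) c17) ((m m0 h0).solL_cons ((m m0 h0).sol_cyc [] (Bc := [7]) (T := [7]) rfl (Model.via _ (mR m0 h0) (fun R => cycB R (subst [[13]] []) [7]) c11) (Model.via _ (mR m0 h0) (fun R => cycB R (subst [[13]] []) [7]) c15) (xn2 m0 h0 hb hc)) (m m0 h0).solL_nil)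
theorem xn5 : (m m0 h0).Sol [[13]] xCg [7, 9] [9, 7] := (m m0 h0).sol_free (xbdd m0 h0 hb hc) (xcm m0 h0 hb hc) (xot m0 h0 hb hc) ((m m0 h0).excl_zero _ _) (Model.via _ (mR m0 h0) (fun R => freeB R xOT [[13]] xCg [0, 1] [7, 9] [9, 7] [16, 17] 37 0 [([], 37, 0)] [[0]] [0, 0, 0, 0, 0, 0] xc20) c20) ((m m0 h0).solL_leaves (xot m0 h0 hb hc) [0] (Bc := [93, 89, 0, 37]) (Model.via _ (mR m0 h0) (fun R => cycB R (subst [[13]] [0]) [93, 89, 0, 37]) c12) (Model.via _ (mR m0 h0) (fun R => allL (leafB R xOT (subst [[13]] [0]) [1, 2, 3, 4, 5] [93, 89, 0, 37] [7, 9] [9, 7]) xL19) c19) (m m0 h0).solL_nil)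
theorem xn4 : (m m0 h0).Sol [[13]] xCg [9] [7] := (m m0 h0).sol_free (xbdd m0 h0 hb hc) (xcm m0 h0 hb hc) (xot m0 h0 hb hc) ((m m0 h0).excl_mov (xbdd m0 h0 hb hc) [0] (Model.via _ (mR m0 h0) (fun R => exclB R (subst [[13]] [0]) 7 xD1) c16)) (Model.via _ (mR m0 h0) (fun R => freeB R xOT [[13]] xCg [0] [9] [7] [16, 17] 7 xD1 [([], 7, 1)] [[0]] [] xc22) c22) ((m m0 h0).solL_cons ((m m0 h0).sol_cyc [] (Bc := [7]) (T := [9]) rfl (Model.via _ (mR m0 h0) (fun R => cycB R (subst [[13]] []) [7]) c11) (Model.via _ (mR m0 h0) (fun R => cycB R (subst [[13]] []) [9]) c21) (xn5 m0 h0 hb hc)) (m m0 h0).solL_nil)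
theorem xn0 : (m m0 h0).Sol [[13]] xCg [] [] := (m m0 h0).sol_free (xbdd m0 h0 hb hc) (xcm m0 h0 hb hc) (xot m0 h0 hb hc) ((m m0 h0).excl_mov (xbdd m0 h0 hb hc) [0] (Model.via _ (mR m0 h0) (fun R => exclB R (subst [[13]] [0]) 9 xD0) c24)) (Model.via _ (mR m0 h0) (fun R => freeB R xOT [[13]] xCg [] [] [] [] 9 xD0 [([], 9, 3)] [[0]] [] xc25) c25) ((m m0 h0).solL_cons ((m m0 h0).sol_cyc [] (Bc := [9]) (T := [7]) rfl (Model.via _ (mR m0 h0) (fun R => cycB R (subst [[13]] []) [9]) c10) (Model.via _ (mR m0 h0) (fun R => cycB R (subst [[13]] []) [7]) c23) (xn4 m0 h0 hb hc)) ((m m0 h0).solL_cons ((m m0 h0).sol_cyc [] (Bc := [9]) (T := [9]) rfl (Model.via _ (mR m0 h0) (fun R => cycB R (subst [[13]] []) [9]) c10) (Model.via _ (mR m0 h0) (fun R => cycB R (subst [[13]] []) [9]) c18) (xn1 m0 h0 hb hc)) (m m0 h0).solL_nil))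
theorem xsol : (m m0 h0).Sol [[13]] xCg [] [] := xn0 m0 h0 hb hc
omit hb hc in
theorem ych_ok : (m m0 h0).ChainOK ych [] := ((m m0 h0).chain_cons [0, 1, 0, 1, 0, 1, 0, 1, 0, 1, 0, 1, 0, 0] (Model.via _ (mR m0 h0) (fun R => Model.fixP R [] [[16], [17]]) c41) (Model.via _ (mR m0 h0) (fun R => Model.growP R [[16], [17]] [0, 1, 0, 1, 0, 1, 0, 1, 0, 1, 0, 1, 0, 0] 67 100) c42) ((m m0 h0).chain_cons [0, 1, 0, 1, 0, 1, 0, 0, 0] (Model.via _ (mR m0 h0) (fun R => Model.fixP R [67] [[26], [27]]) c39) (Model.via _ (mR m0 h0) (fun R => Model.growP R [[26], [27]] [0, 1, 0, 1, 0, 1, 0, 0, 0] 38 36) c40) ((m m0 h0).chain_cons [0, 1, 0, 0] (Model.via _ (mR m0 h0) (fun R => Model.fixP R [38, 67] [[28], [29]]) c37) (Model.via _ (mR m0 h0) (fun R => Model.growP R [[28], [29]] [0, 1, 0, 0] 7 7) c38) ((m m0 h0).chain_cons [0, 1] (Model.via _ (mR m0 h0) (fun R => Model.fixP R [7, 38, 67] [[30], [31]]) c35) (Model.via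 _ (mR m0 h0) (fun R => Model.growP R [[30], [31]] [0, 1] 9 4) c36) ((m m0 h0).chain_cons [1, 0] (Model.via _ (mR m0 h0) (fun R => Model.fixP R [9, 7, 38, 67] [[32], [33]]) c33) (Model.via _ (mR m0 h0) (fun R => Model.growP R [[32], [33]] [1, 0] 91 3) c34) ((m m0 h0).chain_cons [0] (Model.via _ (mR m0 h0) (fun R => Model.fixP R [91, 9, 7, 38, 67] [[34]]) c31) (Model.via _ (mR m0 h0) (fun R => Model.growP R [[34]] [0] 41 2) c32) ((m m0 h0).chain_nil _)))))))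
theorem ytop : gen (m m0 h0).g (Model.cgens ych) = ⊤ := (m m0 h0).chain_top (ych_ok m0 h0) (hc.trans (by decide +kernel))
theorem ybdd : (m m0 h0).Bdd := (m m0 h0).bdd_of_top (ytop m0 h0 hb hc)
theorem yot : (m m0 h0).OTOK yOT := ((m m0 h0).otok_cons (ych_ok m0 h0) (hc.trans (by decide +kernel)) 4 rfl (Model.via _ (mR m0 h0) (fun R => Model.invB R (Model.cgens (ych.drop 4)) yO0) c56) ((m m0 h0).otok_cons (ych_ok m0 h0) (hc.trans (by decide +kernel)) 2 rfl (Model.via _ (mR m0 h0) (fun R => Model.invB R (Model.cgens (ych.drop 2)) yO1) c55) ((m m0 h0).otok_cons (ych_ok m0 h0) (hc.trans (by decide +kernel)) 0 rfl (Model.via _ (mR m0 h0) (fun R => Model.invB R (Model.cgens (ych.drop 0)) yO2) c54) (m m0 h0).otok_nil)))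
theorem ycm : ∀ w ∈ yCg, (m m0 h0).Cm [[14]] (ev (m m0 h0).g w) := (m m0 h0).cm_of_pairs (all_take_done (all_take_step (all_take_zero _ (yCg.flatMap fun w => [[14]].map fun y => (w ++ y, y ++ w))) ((m m0 h0).pairs_of (base m0 h0 hb hc) (Model.via _ (mR m0 h0) (fun R => pairsB R [1, 68, 37, 0] (((yCg.flatMap fun w => [[14]].map fun y => (w ++ y, y ++ w)).drop 0).take 2)) c57))) (by decide +kernel))
theorem yn3 : (m m0 h0).Sol [[14]] yCg [41, 91, 9, 7, 38, 67] [41, 91, 9, 7, 38, 67] := (m m0 h0).sol_done [0, 1, 2, 3, 4, 5] (((m m0 h0).chain_bot (ych_ok m0 h0) (hc.trans (by decide +kernel))).le.trans bot_le) (by decide +kernel)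
theorem yn2 : (m m0 h0).Sol [[14]] yCg [9, 7, 38, 67] [9, 7, 38, 67] := (m m0 h0).sol_free (ybdd m0 h0 hb hc) (ycm m0 h0 hb hc) (yot m0 h0 hb hc) ((m m0 h0).excl_zero _ _) (Model.via _ (mR m0 h0) (fun R => freeB R yOT [[14]] yCg [0, 1, 2, 3] [9, 7, 38, 67] [9, 7, 38, 67] [] 91 0 [([], 91, 0)] [[0, 0]] [0, 0] yc47) c47) ((m m0 h0).solL_cons ((m m0 h0).sol_cyc [0] (Bc := [41, 91]) (T := [41, 91]) rfl (Model.via _ (mR m0 h0) (fun R => cycB R (subst [[14]] [0]) [41, 91]) c45) (Model.via _ (mR m0 h0) (fun R => cycB R (subst [[14]] [0]) [41, 91]) c46) (yn3 m0 h0 hb hc)) (m m0 h0).solL_nil)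
theorem yn1 : (m m0 h0).Sol [[14]] yCg [38, 67] [38, 67] := (m m0 h0).sol_free (ybdd m0 h0 hb hc) (ycm m0 h0 hb hc) (yot m0 h0 hb hc) ((m m0 h0).excl_mov (ybdd m0 h0 hb hc) [0, 0] (Model.via _ (mR m0 h0) (fun R => exclB R (subst [[14]] [0, 0]) 7 yD1) c49)) (Model.via _ (mR m0 h0) (fun R => freeB R yOT [[14]] yCg [0, 1] [38, 67] [38, 67] [] 7 yD1 [([], 7, 1)] [[0, 0]] [] yc50) c50) ((m m0 h0).solL_cons ((m m0 h0).sol_cyc [0] (Bc := [9, 7]) (T := [9, 7]) rfl (Model.via _ (mR m0 h0) (fun R => cycB R (subst [[14]] [0]) [9, 7]) c44) (Model.via _ (mR m0 h0) (fun R => cycB R (subst [[14]] [0]) [9, 7]) c48) (yn2 m0 h0 hb hc)) (m m0 h0).solL_nil)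
theorem yn0 : (m m0 h0).Sol [[14]] yCg [] [] := (m m0 h0).sol_free (ybdd m0 h0 hb hc) (ycm m0 h0 hb hc) (yot m0 h0 hb hc) ((m m0 h0).excl_mov (ybdd m0 h0 hb hc) [0, 0] (Model.via _ (mR m0 h0) (fun R => exclB R (subst [[14]] [0, 0]) 67 yD0) c52)) (Model.via _ (mR m0 h0) (fun R => freeB R yOT [[14]] yCg [] [] [] [] 67 yD0 [([], 67, 2)] [[0], [1]] [0, 1] yc53) c53) ((m m0 h0).solL_cons ((m m0 h0).sol_cyc [0] (Bc := [38, 67]) (T := [38, 67]) rfl (Model.via _ (mR m0 h0) (fun R => cycB R (subst [[14]] [0]) [38, 67]) c43) (Model.via _ (mR m0 h0) (fun R => cycB R (subst [[14]] [0]) [38, 67]) c51) (yn1 m0 h0 hb hc)) (m m0 h0).solL_nil)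
theorem ysol : (m m0 h0).Sol [[14]] yCg [] [] := yn0 m0 h0 hb hc
theorem inj : Function.Injective (m m0 h0).φ := (m m0 h0).inj_of_base (base m0 h0 hb hc)
theorem gtop : gen (m m0 h0).g ([13, 14, 15].map fun x => [x]) = ⊤ :=
  top_of_marks ((m m0 h0).defsOK_g (inj m0 h0 hb hc) ((mR m0 h0).symm ▸ defs_ok)) _ (xtop m0 h0 hb hc) (by decide +kernel)
theorem cl : ∀ k ∈ Subgroup.centralizer {ev (m m0 h0).g [14]}, ∃ w ∈ CL, k = ev (m m0 h0).g w := fun k hk =>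
  list_closed (all_take_done (all_take_step (all_take_zero _ CE) ((m m0 h0).pairs_of (base m0 h0 hb hc) (Model.via _ (mR m0 h0) (fun R => pairsB R [1, 68, 37, 0] ((CE.drop 0).take 24)) c58))) (by decide +kernel)) (by decide +kernel) k ((m m0 h0).cent_le (ysol m0 h0 hb hc) hk)
theorem ocl : (m m0 h0).OutCl 13 14 15 [(1, []), (1, [14, 14, 14])] :=
  (m m0 h0).outCl (r := 7) (t := 3) (s := 6) (e := 1) (n := 1) (K := [1]) (RL := RL) (EL := EL) hc (by decide +kernel) (by decide +kernel)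
    (all_take_done (all_take_step (all_take_zero _ (Model.outE 13 14 15 [14] 7 3 1 1 RL)) ((m m0 h0).pairs_of (base m0 h0 hb hc) (Model.via _ (mR m0 h0) (fun R => pairsB R [1, 68, 37, 0] (((Model.outE 13 14 15 [14] 7 3 1 1 RL).drop 0).take 6)) c59))) (by decide +kernel)) ((m m0 h0).ne_of_neB (Model.via _ (mR m0 h0) (fun R => neB R [13] [] 0 89 0) c60)) (xsol m0 h0 hb hc) (cl m0 h0 hb hc)
    (by decide +kernel) (by decide +kernel) (all_take_done (all_take_step (all_take_zero _ EL) (allL_spec (Model.via _ (mR m0 h0) (fun R => allL (elimB R 13 14 15 RL [(1, []), (1, [14, 14, 14])]) ((EL.drop 0).take 12)) c61))) (by decide +kernel))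
theorem outer : ∃ α, α ∉ Cfsg.Inn G :=
  (m m0 h0).exists_outer (inj m0 h0 hb hc) (mR m0 h0) s36 nl3_ok (k := 1) (e := 1) (c := [14, 14, 14]) (gtop m0 h0 hb hc) (by decide +kernel)
    (List.forall_mem_cons.2 ⟨(eq_of_eqW R2 c63), List.forall_mem_cons.2 ⟨(eq_of_eqW R2 c64), List.forall_mem_cons.2 ⟨(eq_of_eqW R2 c65), List.forall_mem_nil _⟩⟩⟩) rfl (cl m0 h0 hb hc) (NL := NL) (by decide +kernel) (all_take_done (all_take_step (all_take_zero _ NL) (allL_spec (Model.via _ (mR m0 h0) (fun R => allL (innB R 13 15 1 [14, 14, 14]) ((NL.drop 0).take 12)) c62))) (by decide +kernel))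
theorem out : Nat.card (Cfsg.Out G) = 2 := (m m0 h0).out_two (gtop m0 h0 hb hc) (ocl m0 h0 hb hc) (outer m0 h0 hb hc)
end H0.OJ2p
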